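import Mathlib
import Cfsg.Prelude.Def_Classical
import Cfsg.Agent.Lib.Helper16.Char2K
import Cfsg.Agent.Lib.Helper16.OHelp
import Cfsg.Agent.Lib.helper14.OmegaInv
import Cfsg.Agent.Lib.Helper19.SO8.Defs

set_option autoImplicit false

/-!
# Project S8U (designer helper1): definitions for S3590 (10u).
For `q` even there are finite groups of arbitrarily large order with the same spectrum as `PSp(8, q)`.

`G = F^8 ⋊ H`, `H = ker (Dickson character) ≤ GO⁻₈(F)` (`= Ω⁻₈(q)`); `F^8` is a nontrivial abelian normal subgroup, so landed S3444 finishes once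
`ω(G) = ω(PSp 4 F)`.  Both are the set of divisors of the twelve numbers of `T8 q` (project SO8, helper19):
* `ω(PSp 4 F)`: SO8 rows `psp_range`, `sp_upper`, `oreal_asm`, `oreal_xfer`, `o_embed`.
* an element `(v, g)` of `G` has order `n = |g|` or `2 n`, the latter iff `(1 + g + ⋯ + g^(n-1)) v ≠ 0`.
  `⊆`: if `1 + g + ⋯ + g^(n-1) ≠ 0`, `n = 2^a m₀`, then `g` has a Jordan block of size `2^a` for the eigenvalue `1`; as `rank (g - 1)` is even
  (`g ∈ Ω`) the multiplicity of the root `1` of the characteristic polynomial is `> 2^a`, and the SO8 analysis of self-reciprocal polynomials gives `N ∈ T8 q`, `2 n ∣ N`.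
  `⊇`: each `N ∈ T8 q` is realised: odd `N` in `Ω`; `N = 2 m` by `(v, g)`, `g` of odd order `m` with a fixed vector `v`; `4 m` by `g = J₂ ⊕ J₂ ⊕ s`; `8 (q ∓ 1)` by `g = J₄ ⊕ J₂ ⊕ s`.

Vocabulary reused: helper19's SO8 (`T8`, `OReal`), helper13's OTS (`QStd`), helper16's `C2.dickson`, `qfMinus`, `sumQF`, helper14's `OrthInv.rk`, `OrthInv.mat`.
-/

namespace Cfsg.Agent.Lib.Helper1.S8U

open Matrix Module Polynomial Cfsg.Agent.Lib.Helper16 Cfsg.Agent.Lib.Helper13.OTS Cfsg.Agent.Lib.Helper19.SO8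
  Cfsg.Agent.Lib.helper14.OrthInv

/-- the action of `GL ι F` on the additive group of `ι → F`, written multiplicatively -/
noncomputable def glAct (ι : Type) [Fintype ι] [DecidableEq ι] (F : Type*) [Field F] :
    GL ι F →* MulAut (Multiplicative (ι → F)) where
  toFun g :=
    { toFun := fun v => Multiplicative.ofAdd ((g : Matrix ι ι F) *ᵥ Multiplicative.toAdd v)
      invFun := fun v =>
        Multiplicative.ofAdd (((g⁻¹ : GL ι F) : Matrix ι ι F) *ᵥ Multiplicative.toAdd v)
      left_inv := by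
        intro v
        simp only [toAdd_ofAdd, Matrix.mulVec_mulVec]
        rw [← Units.val_mul, inv_mul_cancel, Units.val_one, Matrix.one_mulVec, ofAdd_toAdd]
      right_inv := by
        intro v
        simp only [toAdd_ofAdd, Matrix.mulVec_mulVec]
        rw [← Units.val_mul, mul_inv_cancel, Units.val_one, Matrix.one_mulVec, ofAdd_toAdd]
      map_mul' := by
        intro v w
        simp only [toAdd_mul, Matrix.mulVec_add, ofAdd_add] }
  map_one' := by
    ext v
    simp
  map_mul' := by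
    intro g h
    ext v
    simp [Matrix.mulVec_mulVec]

theorem glAct_apply (ι : Type) [Fintype ι] [DecidableEq ι] (F : Type*) [Field F] (g : GL ι F)
    (v : Multiplicative (ι → F)) :
    glAct ι F g v = Multiplicative.ofAdd ((g : Matrix ι ι F) *ᵥ Multiplicative.toAdd v) := rfl

/-- the split extension `F^ι ⋊ K` of a subgroup `K ≤ GL ι F` by the natural module -/
abbrev AffK {ι : Type} [Fintype ι] [DecidableEq ι] {F : Type*} [Field F] (K : Subgroup (GL ι F)) :=
  SemidirectProduct (Multiplicative (ι → F)) K ((glAct ι F).comp K.subtype)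

/-- `∑_{i<k} g^i` as a matrix -/
def geoM {ι : Type} [Fintype ι] [DecidableEq ι] {F : Type*} [Field F] (g : GL ι F) (k : ℕ) :
    Matrix ι ι F :=
  ∑ i ∈ Finset.range k, ((g ^ i : GL ι F) : Matrix ι ι F)

/-- `∑_{i<k} y^i` as an endomorphism -/
def geoE {F : Type*} [Field F] {V : Type*} [AddCommGroup V] [Module F V] (y : Module.End F V)
    (k : ℕ) : Module.End F V :=
  ∑ i ∈ Finset.range k, y ^ i

/-- the index type of the `8`-dimensional minus-type space -/
abbrev MI8 := (Fin 3 ⊕ Fin 3) ⊕ Fin 2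

/-- anisotropy of the binary form `z₁² + a z₁ z₂ + b z₂²` (the hypothesis of S3589) -/
def Aniso {F : Type*} [Field F] (a b : F) : Prop :=
  ∀ z₁ z₂ : F, z₁ ^ 2 + a * z₁ * z₂ + b * z₂ ^ 2 = 0 → z₁ = 0 ∧ z₂ = 0

/-- `GO⁻₈(F)` as a subgroup of `GL` -/
abbrev GO8 (F : Type*) [Field F] (a b : F) : Subgroup (GL MI8 F) :=
  Cfsg.isometryGroup F (Cfsg.quadFormMinus 3 F a b)

/-- the polar form of the quadratic form `quadFormMinus 3 F a b` -/
noncomputable abbrev B8 (F : Type*) [Field F] (a b : F) : LinearMap.BilinForm F (MI8 → F) :=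
  QuadraticMap.polarBilin (qfMinus 3 F a b)

/-- the Dickson character of `GO⁻₈(F)` (characteristic `2`) -/
noncomputable abbrev dk8 {F : Type*} [Field F] [Fintype F] [CharP F 2] (a b : F) (hab : Aniso a b) :
    ↥(GO8 F a b) →* ℤˣ :=
  C2.dickson (qfMinus 3 F a b) (OSemi.qfMinus_nondeg 3 a b hab)

/-- the kernel of the Dickson character inside `GO⁻₈(F)`, as a subgroup of `GL` -/
noncomputable def Hd {F : Type*} [Field F] [Fintype F] [CharP F 2] (a b : F) (hab : Aniso a b) :
    Subgroup (GL MI8 F) :=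
  ((dk8 a b hab).ker).map (GO8 F a b).subtype

theorem mem_Hd {F : Type*} [Field F] [Fintype F] [CharP F 2] (a b : F) (hab : Aniso a b)
    (g : GL MI8 F) : g ∈ Hd a b hab ↔ ∃ hg : g ∈ GO8 F a b, dk8 a b hab ⟨g, hg⟩ = 1 := by
  unfold Hd
  constructor
  · rintro ⟨x, hx, rfl⟩
    exact ⟨x.2, hx⟩
  · rintro ⟨hg, h⟩
    exact ⟨⟨g, hg⟩, h, rfl⟩

theorem Hd_le {F : Type*} [Field F] [Fintype F] [CharP F 2] (a b : F) (hab : Aniso a b) :
    Hd a b hab ≤ GO8 F a b := by
  intro g hg
  obtain ⟨h, -⟩ := (mem_Hd a b hab g).mp hg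
  exact h

/-- an isometry `g` of some standard quadratic space of dimension `2 d` and type `s`, of order `n`, with `rank (g - 1) ≡ p (mod 2)`, and
(if `c`) `1 + g + ⋯ + g^(n-1) ≠ 0` -/
def OR (F : Type*) [Field F] [Fintype F] (d : ℕ) (s : ℤ) (n p : ℕ) (c : Prop) : Prop :=
  ∃ (ι : Type) (_ : Fintype ι) (_ : DecidableEq ι) (Qs : QuadraticForm F (ι → F)),
    QStd Qs d s ∧ ∃ g : ↥(Cfsg.isometryGroup F (⇑Qs)),
      orderOf g = n ∧ rk g % 2 = p ∧ (c → geoM (g : GL ι F) n ≠ 0)

theorem or_mono {F : Type*} [Field F] [Fintype F] {d : ℕ} {s : ℤ} {n p : ℕ} {c c' : Prop}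
    (hc : c' → c) (h : OR F d s n p c) : OR F d s n p c' := by
  obtain ⟨ι, i1, i2, Qs, hs, g, h1, h2, h3⟩ := h
  exact ⟨ι, i1, i2, Qs, hs, g, h1, h2, fun h => h3 (hc h)⟩

end Cfsg.Agent.Lib.Helper1.S8U
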